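import Cfsg.Agent.Lib.Solvable.TwoLengthDerived.Sys

/-!
# Quadratic elements of a derived group in one block

In characteristic `p ≠ 2` a quadratic `p`-element moves at most a plane of order four of the quotient
of a block, so one lying in the derived group of an operator group moves nothing.
-/

set_option autoImplicit false

namespace CfsgLib.Solvable.PLengthDerived

open Subgroup CfsgLib CfsgLib.Solvable.FPFOperators CfsgLib.Solvable.TwoLengthDerived
open scoped commutatorElement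

universe u v w

/-- The derived group of a three-group acts trivially on a set of at most four points. -/
theorem perm_eq_one_of_mem_derived {T : Type*} [Group T] [Finite T] (hT : IsPGroup 3 T) {N : Type*}
    [Finite N] (hN : Nat.card N ≤ 4) (θ : T →* Equiv.Perm N) {a : T} (ha : a ∈ commutator T) :
    θ a = 1 := by
  haveI : Fact (Nat.Prime 3) := ⟨Nat.prime_three⟩
  obtain ⟨i, hi⟩ := IsPGroup.iff_card.1 (hT.of_surjective _ θ.rangeRestrict_surjective)
  have hi1 : i ≤ 1 := by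
    by_contra hlt
    have h1 : 3 ^ 2 ∣ 3 ^ i := pow_dvd_pow 3 (by omega)
    have h2 : Nat.card θ.range ∣ Nat.card (Equiv.Perm N) := card_subgroup_dvd_card _
    rw [hi, Nat.card_perm] at h2
    have h3 := (h1.trans h2).trans (Nat.factorial_dvd_factorial hN)
    norm_num [Nat.factorial] at h3
  haveI : IsCyclic θ.range := by
    rcases Nat.eq_zero_or_pos i with rfl | hipos
    · haveI : Subsingleton θ.range := Finite.card_le_one_iff_subsingleton.1 (by rw [hi, pow_zero])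
      infer_instance
    · exact isCyclic_of_prime_card (p := 3) (by rw [hi, show i = 1 by omega, pow_one])
  have hle : commutator T ≤ θ.rangeRestrict.ker := by
    rw [commutator_def, commutator_le]
    intro x _ y _
    rw [MonoidHom.mem_ker, map_commutatorElement, commutatorElement_eq_one_iff_mul_comm]
    obtain ⟨g, hg⟩ := IsCyclic.exists_generator (α := θ.range)
    obtain ⟨j, hj⟩ := mem_zpowers_iff.1 (hg (θ.rangeRestrict x))
    obtain ⟨k, hk⟩ := mem_zpowers_iff.1 (hg (θ.rangeRestrict y))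
    rw [← hj, ← hk]
    exact (Commute.zpow_zpow_self g j k).eq
  exact congrArg Subtype.val (show θ.rangeRestrict a = 1 from hle ha)

variable {Γ : Type u} [Group Γ] [Finite Γ] {K : Type v} [Field K] [IsAlgClosed K]
  {U : Type w} [AddCommGroup U] [Module K U] [FiniteDimensional K U]
  {p q : ℕ} [Fact p.Prime] [Fact q.Prime] [CharP K p]

/-- Quadratic elements of the derived group of an operator group act trivially on the block. -/
theorem act_eq_one_of_quadratic (hp2 : p ≠ 2) (hqp : q ≠ p) (ρ : Γ →* Module.End K U)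
    (hinj : Function.Injective ρ) (C : Subgroup Γ) [C.Normal] (hC : IsPGroup q C)
    (hscal : ∀ x ∈ C, ∀ y ∈ C, ∃ ζ : K, ρ ⁅x, y⁆ = ζ • 1) {T A : Subgroup Γ} (hT : IsPGroup p T)
    (hAT : A ≤ ⁅T, T⁆) (hTA : T ≤ normalizer (A : Set Γ))
    (hquad : ∀ a ∈ A, (ρ a - 1) * (ρ a - 1) = 0) {a₀ : Γ} (ha₀ : a₀ ∈ A) : act C a₀ = 1 := by
  classical
  by_contra hne
  have hp : p.Prime := Fact.out
  have hq : q.Prime := Fact.out
  rcases subsingleton_or_nontrivial U with hU | hU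
  · exact hne (by rw [show a₀ = 1 from hinj (LinearMap.ext fun v => Subsingleton.elim _ _), map_one])
  haveI : CharP (Module.End K U) p := charP_of_injective_algebraMap
    (FaithfulSMul.algebraMap_injective K (Module.End K U)) p
  have hATT : A ≤ T := hAT.trans (dser_succ_le T 0)
  -- an element acting centrally
  set P := T.map (act C) with hP
  haveI : Group.IsNilpotent P := (hT.map (act C)).isNilpotent
  set A' := (A.map (act C)).subgroupOf P with hA'
  haveI : A'.Normal := (normal_subgroupOf_iff_le_normalizer (map_mono hATT)).2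
    ((map_mono hTA).trans (le_normalizer_map (act C)))
  have hA'ne : A' ≠ ⊥ := fun h0 => by
    have h1 : (⟨act C a₀, mem_map_of_mem _ (hATT ha₀)⟩ : P) ∈ A' := mem_map_of_mem (act C) ha₀
    rw [h0, mem_bot] at h1
    exact hne (congrArg Subtype.val h1)
  obtain ⟨⟨z, hzP⟩, hz, hz1⟩ := (bot_or_exists_ne_one (A' ⊓ center P)).resolve_left
    (Solvable.FrattiniFitting.inf_center_ne_bot A' hA'ne)
  obtain ⟨⟨a, ha, rfl⟩, hzc⟩ := hz
  have ha1 : act C a ≠ 1 := fun h0 => hz1 (Subtype.ext h0)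
  have hca : ∀ x ∈ T, Commute (act C x) (act C a) := fun x hx =>
    congrArg Subtype.val (mem_center_iff.1 hzc ⟨act C x, mem_map_of_mem _ hx⟩)
  have hp3 : 2 < p := lt_of_le_of_ne hp.two_le (Ne.symm hp2)
  have hap : a ^ p = 1 := by
    refine hinj ?_
    have h1 : (ρ a - 1) ^ p ^ 1 = 0 := by
      rw [pow_one, show p = 2 + (p - 2) by omega, pow_add, pow_two, hquad a ha, zero_mul]
    rw [sub_pow_char_pow_of_commute p 1 (Commute.one_right _), one_pow, sub_eq_zero, pow_one,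
      ← map_pow] at h1
    exact h1.trans ρ.map_one.symm
  -- the scalars
  let Z : Subgroup Γ :=
    { carrier := {c | c ∈ C ∧ ∃ ζ : K, ρ c = ζ • 1}
      one_mem' := ⟨one_mem C, 1, by rw [map_one, one_smul]⟩
      mul_mem' := fun {c d} ⟨hcC, ζ, hζ⟩ ⟨hdC, η, hη⟩ => ⟨mul_mem hcC hdC, ζ * η, by
        rw [map_mul, hζ, hη, smul_one_mul, smul_smul]⟩
      inv_mem' := fun {c} ⟨hcC, ζ, hζ⟩ => ⟨inv_mem hcC, ζ⁻¹, by
        have h1 : ζ • ρ c⁻¹ = 1 := by
          rw [← smul_one_mul ζ, ← hζ, ← map_mul, mul_inv_cancel, map_one]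
        have hζ0 : ζ ≠ 0 := fun h0 => by
          rw [h0, zero_smul] at h1; exact zero_ne_one h1
        rw [← h1, smul_smul, inv_mul_cancel₀ hζ0, one_smul]⟩ }
  have hZcen : ∀ c ∈ Z, ∀ g : Γ, c * g = g * c := fun c hc g => by
    obtain ⟨-, ζ, hζ⟩ := hc
    exact hinj (by rw [map_mul, map_mul, hζ, smul_one_mul, mul_smul_comm, mul_one])
  haveI : Z.Normal := ⟨fun c hc g => by rw [← hZcen c hc g, mul_inv_cancel_right]; exact hc⟩
  haveI : Fintype Z := Fintype.ofFinite Z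
  have hsmul : Function.Injective fun c : K => c • (1 : Module.End K U) :=
    smul_left_injective K one_ne_zero
  have hχ : ∀ c : Z, ρ (c : Γ) = c.2.2.choose • 1 := fun c => c.2.2.choose_spec
  let χ : Z →* K :=
    { toFun := fun c => c.2.2.choose
      map_one' := hsmul (by
        show ((1 : Z).2.2.choose • (1 : Module.End K U)) = (1 : K) • 1
        rw [← hχ, Subgroup.coe_one, map_one, one_smul])
      map_mul' := fun c d => hsmul (by
        show ((c * d).2.2.choose • (1 : Module.End K U)) = (c.2.2.choose * d.2.2.choose) • 1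
        rw [← hχ, Subgroup.coe_mul, map_mul]
        exact (congrArg₂ (· * ·) (hχ c) (hχ d)).trans (by rw [smul_one_mul, smul_smul])) }
  set l := χ.toHomUnits with hl
  have hZC : Z ≤ C := fun c hc => hc.1
  have hqK : (q : K) ≠ 0 := fun h0 => hqp
    ((Nat.prime_dvd_prime_iff_eq hp hq).1 ((CharP.cast_eq_zero_iff K p _).1 h0)).symm
  have hZK : (Fintype.card Z : K) ≠ 0 := by
    rw [← Nat.card_eq_fintype_card]; exact natCard_cast_ne_zero (hC.to_le hZC) hqK
  have he : weightIdem Z ρ l = 1 := by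
    have h1 : ∀ c : Z, (l c⁻¹ : K) • ρ (c : Γ) = 1 := fun c => by
      rw [hχ c, smul_smul]
      show (χ c⁻¹ * χ c) • (1 : Module.End K U) = 1
      rw [← map_mul, inv_mul_cancel, map_one, one_smul]
    rw [weightIdem, Finset.sum_congr rfl (fun c _ => h1 c), Finset.sum_const, Finset.card_univ,
      ← Nat.cast_smul_eq_nsmul K, smul_smul, inv_mul_cancel₀ hZK, one_smul]
  set mk := QuotientGroup.mk' Z with hmk
  have hmk1 : ∀ c, mk c = 1 ↔ c ∈ Z := fun c => QuotientGroup.eq_one_iff c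
  have hCle : ⁅C, C⁆ ≤ C := commutator_le.2 fun a ha b hb => by
    rw [commutatorElement_def]
    exact mul_mem (mul_mem (mul_mem ha hb) (inv_mem ha)) (inv_mem hb)
  have hcommZ : ∀ c ∈ C, ∀ d ∈ C, ⁅c, d⁆ ∈ Z := fun c hc d hd =>
    ⟨hCle (commutator_mem_commutator hc hd), hscal c hc d hd⟩
  have hCcomm : ∀ c ∈ C, ∀ d ∈ C, mk c * mk d = mk d * mk c := fun c hc d hd => by
    rw [← commutatorElement_eq_one_iff_mul_comm, ← map_commutatorElement, hmk1]
    exact hcommZ c hc d hd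
  let D : C →* Γ ⧸ Z := MonoidHom.mk' (fun o => mk ⁅a, (o : Γ)⁆) fun o o' => by
    show mk ⁅a, (o : Γ) * o'⁆ = mk ⁅a, (o : Γ)⁆ * mk ⁅a, (o' : Γ)⁆
    rw [show ⁅a, (o : Γ) * o'⁆ = ⁅a, (o : Γ)⁆ * ((o : Γ) * ⁅a, (o' : Γ)⁆ * (o : Γ)⁻¹) by
      simp only [commutatorElement_def]; group, map_mul, map_mul, map_mul,
      hCcomm o o.2 _ (commutator_mem_of_normal inferInstance _ o'.2), map_inv, mul_inv_cancel_right]
  set Qa := D.range.comap mk with hQa
  have hQamem : ∀ {c : Γ}, c ∈ Qa ↔ ∃ o ∈ C, mk c = mk ⁅a, o⁆ := fun {c} =>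
    ⟨fun ⟨o, ho⟩ => ⟨o, o.2, ho.symm⟩, fun ⟨o, ho, e⟩ => ⟨⟨o, ho⟩, e.symm⟩⟩
  have hQC : Qa ≤ C := by
    intro c hc
    obtain ⟨o, ho, e⟩ := hQamem.1 hc
    have h1 : c⁻¹ * ⁅a, o⁆ ∈ Z := QuotientGroup.eq.1 e
    have h2 : c⁻¹ ∈ C := by
      have := C.mul_mem (hZC h1) (C.inv_mem (commutator_mem_of_normal inferInstance a ho))
      rwa [mul_inv_cancel_right] at this
    exact (C.inv_mem_iff).1 h2
  have hZQa : Z ≤ Qa := fun c hc => hQamem.2 ⟨1, one_mem C, by
    rw [commutatorElement_one_right, map_one, (hmk1 c).2 hc]⟩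
  have hmemQa : ∀ o ∈ C, ⁅a, o⁆ ∈ Qa := fun o ho => hQamem.2 ⟨o, ho, rfl⟩
  have haQa : a ∈ normalizer (Qa : Set Γ) := by
    refine le_normalizer_iff.2 (fun g hg c hc' => ?_) (mem_zpowers a)
    have hga : g * a = a * g := by
      obtain ⟨j, rfl⟩ := mem_zpowers_iff.1 hg
      exact ((Commute.refl a).zpow_left j).eq
    obtain ⟨o, ho, e⟩ := hQamem.1 hc'
    refine hQamem.2 ⟨g * o * g⁻¹, (inferInstance : C.Normal).conj_mem o ho g, ?_⟩
    rw [map_mul, map_mul, e, ← map_mul, ← map_mul]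
    congr 1
    rw [show g * ⁅a, o⁆ * g⁻¹ = ⁅g * a * g⁻¹, g * o * g⁻¹⁆ by
      simp only [commutatorElement_def]; group, hga, mul_inv_cancel_right]
  have hcop : ∀ {o : Γ}, o ∈ C → (orderOf o).Coprime p := fun {o} ho => by
    obtain ⟨b, hb⟩ := hC ⟨o, ho⟩
    exact (((Nat.coprime_primes hq hp).2 hqp).pow_left b).coprime_dvd_left
      (orderOf_dvd_of_pow_eq_one (congrArg Subtype.val hb))
  have hcomm1 : ∀ o ∈ C, ⁅a, o⁆ ∈ Z → Commute a o := fun o ho hZ =>
    commutatorElement_eq_one_iff_mul_comm.1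
      (eq_one_of_commute_commutator hap (hZcen _ hZ a).symm (hcop (hZC hZ)))
  have hfix : ∀ o ∈ Qa, (a ^ p ^ 0 * o = o * a ^ p ^ 0 ↔ o ∈ Z) := by
    rw [pow_zero, pow_one]
    refine fun o ho => ⟨fun hco => ?_, fun hoZ => (hZcen o hoZ a).symm⟩
    obtain ⟨w, hw, e⟩ := hQamem.1 ho
    rw [← hmk1, e, map_commutatorElement]
    refine eq_one_of_commute_commutator (p := p) (by rw [← map_pow, hap, map_one]) ?_ ?_
    · rw [← map_commutatorElement, ← e, ← map_mul, ← map_mul, hco]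
    · rw [← map_commutatorElement, ← e]
      exact (hcop (hQC ho)).coprime_dvd_left (orderOf_map_dvd _ _)
  have hne' : ∃ y ∈ Qa, ρ (a ^ p ^ 0 * y) * weightIdem Z ρ l ≠ ρ (y * a ^ p ^ 0) * weightIdem Z ρ l := by
    by_contra hcon
    push Not at hcon
    refine ha1 (MulEquiv.ext fun v => ?_)
    obtain ⟨o, rfl⟩ := cls_surjective C v
    have h1 := hcon _ (hmemQa o o.2)
    rw [he, mul_one, mul_one] at h1
    have h2 := hcomm1 o o.2 ((hfix _ (hmemQa o o.2)).1 (hinj h1))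
    rw [act_cls, MulAut.one_apply]
    refine congrArg (cls C) (Subtype.ext ?_)
    rw [MulAut.conjNormal_apply, h2.eq, mul_inv_cancel_right]
  obtain ⟨α, d, hαn, -, hdN, hdle, -, R', hR'mem, hd, -, -⟩ :=
    theoremB_block_at (n := 0) (r := 2) hqp ρ Qa Z (hC.to_le hQC) hZQa
      (fun c hc y _ => (hZcen c hc y).symm) (fun c hc y hy => hcommZ c (hQC hc) y (hQC hy))
      (by rw [zero_add, pow_one, hap]) haQa hfix l hne' (by rw [pow_two]; exact hquad a ha)
      (by rw [zero_add, pow_one]; exact hp3)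
  obtain rfl : α = 0 := by omega
  simp only [zero_add, pow_zero, one_mul, tsub_zero, pow_one] at hdN hdle
  obtain ⟨rfl, rfl⟩ : p = 3 ∧ d = 2 := ⟨by omega, by omega⟩
  -- every element splits off a fixed one
  have hsplit : ∀ o ∈ C, ∃ y ∈ Qa, Commute a (y⁻¹ * o) := by
    let g : D.range → D.range := fun w => ⟨⁅mk a, (w : Γ ⧸ Z)⁆, by
      obtain ⟨o, ho⟩ := w.2
      refine ⟨⟨⁅a, (o : Γ)⁆, commutator_mem_of_normal inferInstance a o.2⟩, ?_⟩
      show mk ⁅a, ⁅a, (o : Γ)⁆⁆ = _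
      rw [← ho]
      exact map_commutatorElement mk a _⟩
    have hg : Function.Injective g := by
      intro w w' hww
      obtain ⟨o, ho⟩ := w.2
      obtain ⟨o', ho'⟩ := w'.2
      have e : ⁅mk a, (w : Γ ⧸ Z)⁆ = ⁅mk a, (w' : Γ ⧸ Z)⁆ := congrArg Subtype.val hww
      set y : C := ⟨⁅a, (o : Γ)⁆, commutator_mem_of_normal inferInstance a o.2⟩ with hy
      set y' : C := ⟨⁅a, (o' : Γ)⁆, commutator_mem_of_normal inferInstance a o'.2⟩ with hy'
      have e' : D y = D y' := by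
        show mk ⁅a, ⁅a, (o : Γ)⁆⁆ = mk ⁅a, ⁅a, (o' : Γ)⁆⁆
        rw [map_commutatorElement mk a, map_commutatorElement mk a ⁅a, (o' : Γ)⁆,
          show mk ⁅a, (o : Γ)⁆ = D o from rfl, show mk ⁅a, (o' : Γ)⁆ = D o' from rfl, ho, ho']
        exact e
      have hyy : ⁅a, ((y⁻¹ * y' : C) : Γ)⁆ ∈ Z := by
        rw [← hmk1, show mk ⁅a, ((y⁻¹ * y' : C) : Γ)⁆ = D (y⁻¹ * y') from rfl, map_mul, map_inv, e',
          inv_mul_cancel]
      have hQ : ((y⁻¹ * y' : C) : Γ) ∈ Qa := mul_mem (inv_mem (hmemQa o o.2)) (hmemQa o' o'.2)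
      have h1 := (hfix _ hQ).1 (by rw [pow_zero, pow_one]; exact (hcomm1 _ (y⁻¹ * y' : C).2 hyy).eq)
      refine Subtype.ext ?_
      rw [← ho, ← ho']
      exact (QuotientGroup.eq.2 h1 : (((y : C) : Γ) : Γ ⧸ Z) = ((y' : C) : Γ))
    intro o ho
    obtain ⟨⟨w, o', hw⟩, hgw⟩ := Finite.injective_iff_surjective.1 hg ⟨D ⟨o, ho⟩, ⟨o, ho⟩, rfl⟩
    refine ⟨⁅a, (o' : Γ)⁆, hmemQa o' o'.2, ?_⟩
    have hC' : ⁅a, (o' : Γ)⁆ ∈ C := commutator_mem_of_normal inferInstance a o'.2
    refine hcomm1 _ (mul_mem (inv_mem hC') ho) ?_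
    have e : ⁅mk a, w⁆ = D ⟨o, ho⟩ := congrArg Subtype.val hgw
    have e2 : D ⟨⁅a, (o' : Γ)⁆, hC'⟩ = D ⟨o, ho⟩ := by
      rw [← e, ← hw]
      exact map_commutatorElement mk a _
    rw [← hmk1, show mk ⁅a, ⁅a, (o' : Γ)⁆⁻¹ * o⁆ = D ((⟨⁅a, (o' : Γ)⁆, hC'⟩ : C)⁻¹ * ⟨o, ho⟩) from rfl,
      map_mul, map_inv, e2, inv_mul_cancel]
  -- the moved part is a plane of order four
  set N := (Qa.subgroupOf C).map (cls C) with hN
  have hRker : R'.subgroupOf C ≤ quoKer C := by
    rintro ⟨c, hcC⟩ hc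
    obtain ⟨hcQ, hcR⟩ := (hR'mem c).1 hc
    refine mem_sup_left (mem_center_iff.2 fun o => Subtype.ext ?_)
    obtain ⟨y, hy, hya⟩ := hsplit o o.2
    have h1 : Commute c y := by
      have := hcR y hy
      rw [he, mul_one, mul_one] at this
      exact hinj this
    have h2 : Commute c (y⁻¹ * o) := by
      obtain ⟨o', ho', e⟩ := hQamem.1 hcQ
      set c' := y⁻¹ * (o : Γ) with hc'
      have hc'C : c' ∈ C := mul_mem (inv_mem (hQC hy)) o.2
      have hb : c' * ⁅a, o'⁆ * c'⁻¹ = ⁅a, o'⁆ := by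
        have hκ := hZcen _ (hcommZ c' hc'C o' ho')
        rw [show c' * ⁅a, o'⁆ * c'⁻¹ = ⁅c' * a * c'⁻¹, c' * o' * c'⁻¹⁆ by
          simp only [commutatorElement_def]; group, ← hya.eq, mul_inv_cancel_right,
          show c' * o' * c'⁻¹ = ⁅c', o'⁆ * o' by rw [commutatorElement_def]; group]
        rw [commutatorElement_def a, commutatorElement_def a]
        calc a * (⁅c', o'⁆ * o') * a⁻¹ * (⁅c', o'⁆ * o')⁻¹
            = (a * ⁅c', o'⁆) * o' * a⁻¹ * o'⁻¹ * ⁅c', o'⁆⁻¹ := by group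
          _ = ⁅c', o'⁆ * (a * o' * a⁻¹ * o'⁻¹) * ⁅c', o'⁆⁻¹ := by rw [← hκ a]; group
          _ = a * o' * a⁻¹ * o'⁻¹ := by rw [hκ, mul_inv_cancel_right]
      have h1 : c⁻¹ * ⁅a, o'⁆ ∈ Z := QuotientGroup.eq.1 e
      rw [show c = ⁅a, o'⁆ * (c⁻¹ * ⁅a, o'⁆)⁻¹ by group]
      exact (mul_inv_eq_iff_eq_mul.1 hb : c' * ⁅a, o'⁆ = ⁅a, o'⁆ * c').symm |> fun h =>
        (show Commute ⁅a, o'⁆ c' from h).mul_left (show Commute _ c' from hZcen _ (inv_mem h1) c')
    show (o : Γ) * c = c * o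
    rw [← mul_inv_cancel_left y (o : Γ)]
    exact (h1.mul_right h2).eq.symm
  have hN4 : Nat.card N ≤ 4 := by
    rw [hN, ← Subgroup.relIndex_ker, cls, QuotientGroup.ker_mk']
    refine Nat.le_of_dvd (by norm_num) ((Subgroup.relIndex_dvd_of_le_left _ hRker).trans ?_)
    rw [Subgroup.relIndex_subgroupOf hQC, hd]
  have hNmem : ∀ w, w ∈ N ↔ ∃ v, w = act C a v * v⁻¹ := by
    intro w
    have hD : ∀ o : C, cls C ⟨⁅a, (o : Γ)⁆, commutator_mem_of_normal inferInstance a o.2⟩ =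
        act C a (cls C o) * (cls C o)⁻¹ := fun o => by
      rw [act_cls, ← map_inv, ← map_mul]
      refine congrArg (cls C) (Subtype.ext ?_)
      rw [Subgroup.coe_mul, InvMemClass.coe_inv, MulAut.conjNormal_apply]
      rfl
    constructor
    · rintro ⟨⟨c, hcC⟩, hc, rfl⟩
      obtain ⟨o, ho, e⟩ := hQamem.1 hc
      refine ⟨cls C ⟨o, ho⟩, ?_⟩
      rw [← hD ⟨o, ho⟩, ← inv_mul_eq_one, ← map_inv, ← map_mul]
      refine (QuotientGroup.eq_one_iff _).2 (mem_sup_left (mem_center_iff.2 fun y => Subtype.ext ?_))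
      exact (hZcen _ (QuotientGroup.eq.1 e) y).symm
    · rintro ⟨v, rfl⟩
      obtain ⟨o, rfl⟩ := cls_surjective C v
      exact ⟨_, hmemQa o o.2, hD o⟩
  have hTN : ∀ x ∈ T, ∀ w ∈ N, act C x w ∈ N := fun x hx w hw => by
    obtain ⟨v, rfl⟩ := (hNmem w).1 hw
    refine (hNmem _).2 ⟨act C x v, ?_⟩
    rw [map_mul, map_inv, ← MulAut.mul_apply, (hca x hx).eq, MulAut.mul_apply]
  let θ : T →* Equiv.Perm N := MonoidHom.mk' (fun x =>
    { toFun := fun w => ⟨act C (x : Γ) w, hTN x x.2 w w.2⟩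
      invFun := fun w => ⟨act C ((x : Γ))⁻¹ w, hTN _ (inv_mem x.2) w w.2⟩
      left_inv := fun w => Subtype.ext (by
        show act C ((x : Γ))⁻¹ (act C (x : Γ) w) = w
        rw [← MulAut.mul_apply, ← map_mul, inv_mul_cancel, map_one]; rfl)
      right_inv := fun w => Subtype.ext (by
        show act C (x : Γ) (act C ((x : Γ))⁻¹ w) = w
        rw [← MulAut.mul_apply, ← map_mul, mul_inv_cancel, map_one]; rfl) })
    fun x y => Equiv.ext fun w => Subtype.ext (by
      show act C ((x * y : T) : Γ) w = act C (x : Γ) (act C (y : Γ) w)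
      rw [Subgroup.coe_mul, map_mul, MulAut.mul_apply])
  have hθ : θ ⟨a, hATT ha⟩ = 1 := perm_eq_one_of_mem_derived hT hN4 θ (by
    rw [← mem_map_iff_mem T.subtype_injective, map_subtype_commutator]
    exact hAT ha)
  refine ha1 (MulEquiv.ext fun v => ?_)
  rw [MulAut.one_apply]
  set u := act C a v * v⁻¹ with hu
  have huN : u ∈ N := (hNmem u).2 ⟨v, rfl⟩
  have hfu : act C a u = u := congrArg Subtype.val (DFunLike.congr_fun hθ (⟨u, huN⟩ : N))
  have hiter : ∀ i : ℕ, act C (a ^ i) v = u ^ i * v := by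
    intro i
    induction i with
    | zero => rw [pow_zero, pow_zero, map_one, MulAut.one_apply, one_mul]
    | succ i ih =>
      rw [pow_succ', map_mul, MulAut.mul_apply, ih, map_mul, map_pow, hfu, pow_succ, mul_assoc]
      congr 1
      rw [hu, inv_mul_cancel_right]
  have hu3 : u ^ 3 = 1 := by
    have h := hiter 3
    rwa [hap, map_one, MulAut.one_apply, right_eq_mul] at h
  obtain ⟨b, hb⟩ := hC.to_quotient (quoKer C) u
  have h1 := pow_gcd_eq_one.mpr ⟨hb, hu3⟩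
  rw [(((Nat.coprime_primes hq hp).2 hqp).pow_left b).gcd_eq_one, pow_one] at h1
  rwa [hu, mul_inv_eq_one] at h1

end CfsgLib.Solvable.PLengthDerived
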