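import Cfsg.Agent.Lib.Solvable.PLengthDerived.Orbit
import Cfsg.Agent.Lib.Solvable.PLengthDerived.Core
import Cfsg.Agent.Lib.Solvable.TwoLength.Main

/-!
# The last derived subgroup centralises the invariant `q`-subgroups
-/

set_option autoImplicit false

namespace CfsgLib.Solvable.PLengthDerived

open Subgroup CfsgLib CfsgLib.Solvable.FPFOperators CfsgLib.Solvable.TwoLengthDerived
open scoped commutatorElement

universe u v w

variable {Γ : Type u} [Group Γ] [Finite Γ] {K : Type v} [Field K]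
  {U : Type w} [AddCommGroup U] [Module K U]

/-- A representation on an invariant subspace, made faithful. -/
theorem exists_block_rep {q : ℕ} [Fact q.Prime] (ρ : Γ →* Module.End K U) {X C : Subgroup Γ}
    (hCX : C ≤ X) (hX : X ≤ normalizer (C : Set Γ)) (hC : IsPGroup q C) (V : Submodule K U)
    (hV : ∀ x ∈ X, ∀ v ∈ V, ρ x v ∈ V)
    (hscal : ∀ x ∈ C, ∀ y ∈ C, ∃ ζ : K, ∀ v ∈ V, ρ ⁅x, y⁆ v = ζ • v) :
    ∃ (Γ' : Type u) (_ : Group Γ') (_ : Finite Γ') (ρ' : Γ' →* Module.End K V) (f : X →* Γ'),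
      Function.Injective ρ' ∧ Function.Surjective f ∧
      (∀ (x : X) (v : V), ((ρ' (f x) v : V) : U) = ρ (x : Γ) v) ∧
      ((C.subgroupOf X).map f).Normal ∧ IsPGroup q ((C.subgroupOf X).map f) ∧
      ∀ x ∈ (C.subgroupOf X).map f, ∀ y ∈ (C.subgroupOf X).map f, ∃ ζ : K, ρ' ⁅x, y⁆ = ζ • 1 := by
  let θ : X →* Module.End K V :=
    { toFun := fun x => (ρ (x : Γ)).restrict (hV x x.2)
      map_one' := LinearMap.ext fun v => Subtype.ext (by
        rw [LinearMap.restrict_coe_apply, Subgroup.coe_one, map_one]; rfl)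
      map_mul' := fun x y => LinearMap.ext fun v => Subtype.ext (by
        rw [LinearMap.restrict_coe_apply, Subgroup.coe_mul, map_mul]; rfl) }
  obtain ⟨ρ', hinj, hρ'⟩ := TwoLength.exists_injective_lift θ
  refine ⟨X ⧸ θ.ker, inferInstance, inferInstance, ρ', QuotientGroup.mk' θ.ker, hinj,
    QuotientGroup.mk'_surjective _, fun x v => by rw [hρ']; rfl, ?_, ?_, ?_⟩
  · haveI : (C.subgroupOf X).Normal := (normal_subgroupOf_iff_le_normalizer hCX).2 hX
    exact Normal.map inferInstance _ (QuotientGroup.mk'_surjective _)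
  · exact (hC.of_equiv (subgroupOfEquivOfLe hCX).symm).map _
  · rintro _ ⟨x, hx, rfl⟩ _ ⟨y, hy, rfl⟩
    obtain ⟨ζ, hζ⟩ := hscal _ hx _ hy
    refine ⟨ζ, LinearMap.ext fun v => Subtype.ext ?_⟩
    rw [← map_commutatorElement, hρ']
    show ρ (X.subtype ⁅x, y⁆) v = ζ • (v : U)
    rw [map_commutatorElement]
    exact hζ v v.2

variable [IsAlgClosed K] [FiniteDimensional K U] {p q : ℕ} [Fact p.Prime] [Fact q.Prime] [CharP K p]

/-- The last derived subgroup centralises a normal `q`-subgroup. -/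
theorem commute_of_chain (hp2 : p ≠ 2) (hqp : q ≠ p) (ρ : Γ →* Module.End K U)
    (hinj : Function.Injective ρ) {O : Subgroup Γ} [O.Normal] (hO : IsPGroup q O) {S : Subgroup Γ}
    (hS : IsPGroup p S) {n : ℕ} (hch : ChainZero ρ S (n + 1)) {c : Γ} (hcS : c ∈ dser S n) :
    ∀ y ∈ O, c * y = y * c := by
  classical
  have hp : p.Prime := Fact.out
  have hq : q.Prime := Fact.out
  obtain ⟨i, hi⟩ := hS ⟨c, dser_le S _ hcS⟩
  have hck : c ^ p ^ i = 1 := congrArg Subtype.val hi
  obtain ⟨C₀, hchar, hC2, hcrit⟩ := PGroup.CoprimeFix.exists_critical hO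
  haveI := hchar
  set C := C₀.map O.subtype with hCdef
  haveI hCn : C.Normal := ConjAct.normal_of_characteristic_of_normal
  set Z := C ⊓ centralizer (C : Set Γ) with hZdef
  haveI : Z.Normal := inferInstance
  haveI : Fintype Z := Fintype.ofFinite Z
  have hCp : IsPGroup q C := (hO.to_subgroup C₀).map O.subtype
  have hqK : (q : K) ≠ 0 := fun h0 =>
    hqp ((Nat.prime_dvd_prime_iff_eq hp hq).1 ((CharP.cast_eq_zero_iff K p _).1 h0)).symm
  have hZc : ∀ z ∈ Z, ∀ y ∈ C, y * z = z * y := fun z hz y hy => mem_centralizer_iff.1 hz.2 y hy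
  have hcomm : ∀ x ∈ C, ∀ y ∈ C, ⁅x, y⁆ ∈ Z := by
    intro x hx y hy
    refine ⟨(commutator_le_right C C) (commutator_mem_commutator hx hy),
      mem_centralizer_iff.2 fun w hw => ?_⟩
    obtain ⟨x', hx', rfl⟩ := hx
    obtain ⟨y', hy', rfl⟩ := hy
    obtain ⟨w', hw', rfl⟩ := hw
    rw [← map_commutatorElement, ← map_mul, ← map_mul, (hC2.comm x' hx' y' hy' w' hw').eq]
  have hZcomm : IsMulCommutative Z :=
    isMulCommutative_iff.2 fun x o => Subtype.ext (hZc o o.2 x x.2.1)
  have hZK : (Fintype.card Z : K) ≠ 0 := by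
    rw [← Nat.card_eq_fintype_card]; exact natCard_cast_ne_zero (hCp.to_le inf_le_left) hqK
  have hfixl : ∀ l : Z →* Kˣ, weightIdem Z ρ l ≠ 0 → dser S n ≤ MulAction.stabilizer Γ l :=
    fun l hl => dser_le_stabilizer hS hZK hch l hl
  have hcenZ : ∀ z ∈ Z, c * z = z * c := by
    intro z hz
    have hmem : c * z * c⁻¹ ∈ Z := (inferInstance : Z.Normal).conj_mem z hz c
    have h1 : ρ (c * z * c⁻¹) = ρ z := eq_of_forall_mul_weightIdem (K := K) ρ hZcomm hZK fun l hl => by
      have hfix : c • l = l := hfixl l hl hcS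
      have h2 : l ⟨c * z * c⁻¹, hmem⟩ = l ⟨z, hz⟩ := by
        conv_lhs => rw [← hfix, dual_smul_apply]
        refine congrArg l (Subtype.ext ?_)
        rw [MulAut.conjNormal_apply]
        group
      rw [show c * z * c⁻¹ = ((⟨c * z * c⁻¹, hmem⟩ : Z) : Γ) from rfl, map_mem_mul_weightIdem,
        map_mem_mul_weightIdem ρ l ⟨z, hz⟩, h2]
    exact mul_inv_eq_iff_eq_mul.1 (hinj h1)
  have hblock : ∀ l : Z →* Kˣ, ∀ y' ∈ C, ∀ x ∈ C,
      ρ (⁅c, y'⁆ * x) * weightIdem Z ρ l = ρ (x * ⁅c, y'⁆) * weightIdem Z ρ l := by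
    intro l y' hy' x hx
    by_cases hl : weightIdem Z ρ l = 0
    · rw [hl, mul_zero, mul_zero]
    set e := weightIdem Z ρ l with he
    set St := MulAction.stabilizer Γ l with hSt
    have hmemSt : ∀ {g : Γ}, g ∈ St ↔ g • l = l := Iff.rfl
    have hCSt : C ≤ St := fun o ho =>
      hmemSt.2 (dual_smul_eq_self_of_commute l fun z hz => hZc z hz o ho)
    have hnSt : dser S n ≤ St := hfixl l hl
    have hcSt : c ∈ St := hnSt hcS
    set V := LinearMap.range e with hV
    have hVinv : ∀ g ∈ St, ∀ v ∈ V, ρ g v ∈ V := by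
      rintro g hg _ ⟨v, rfl⟩
      refine ⟨ρ g v, ?_⟩
      rw [← Module.End.mul_apply, ← Module.End.mul_apply, he, map_mul_weightIdem_smul, hmemSt.1 hg]
    obtain ⟨Γ', _, _, ρ', f, hinj', hf, hρ', hC'n, hC'p, hscal'⟩ := exists_block_rep ρ hCSt
      (by rw [normalizer_eq_top]; exact le_top) hCp V hVinv fun a ha b hb => by
        refine ⟨(l ⟨⁅a, b⁆, hcomm a ha b hb⟩ : K), ?_⟩
        rintro _ ⟨v, rfl⟩
        rw [← Module.End.mul_apply, he, ← LinearMap.smul_apply,
          map_mem_mul_weightIdem ρ l ⟨⁅a, b⁆, hcomm a ha b hb⟩]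
    set C' := (C.subgroupOf St).map f with hC'
    haveI : C'.Normal := hC'n
    have hφc : act C' (f ⟨c, hcSt⟩) = 1 := by
      have hex : ∃ j, dser S j ≤ St := ⟨n, hnSt⟩
      set j := Nat.find hex with hjdef
      have hj : dser S j ≤ St := Nat.find_spec hex
      have hjn : j ≤ n := Nat.find_min' hex hnSt
      have hmin : ∀ t < j, ¬ dser S t ≤ St := fun t ht => Nat.find_min hex ht
      rcases eq_or_lt_of_le hjn with hjeq | hjlt
      · have h1 : (ρ c - 1) * e = 0 :=
          sub_one_mul_weightIdem hS hZK l (i := j) (hjeq.symm ▸ hch) hmin hj (hjeq.symm ▸ hcS)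
        have h2 : f ⟨c, hcSt⟩ = 1 := hinj' (LinearMap.ext fun v => Subtype.ext (by
          obtain ⟨_, w, rfl⟩ := v
          rw [hρ', map_one]
          have h3 := LinearMap.congr_fun h1 w
          rw [Module.End.mul_apply, LinearMap.sub_apply, Module.End.one_apply, LinearMap.zero_apply,
            sub_eq_zero] at h3
          exact h3))
        rw [h2, map_one]
      set T := ((dser S j).subgroupOf St).map f with hT
      set A := ((dser S n).subgroupOf St).map f with hA
      refine act_eq_one_of_quadratic hp2 hqp ρ' hinj' C' hC'p hscal' (T := T) (A := A)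
        (((hS.to_le (dser_le S j)).of_equiv (subgroupOfEquivOfLe hj).symm).map f) ?_ ?_ ?_
        (mem_map_of_mem f hcS)
      · rintro _ ⟨⟨a, haSt⟩, ha, rfl⟩
        show f ⟨a, haSt⟩ ∈ dser T 1
        rw [hT, ← map_dser]
        refine mem_map_of_mem f ?_
        rw [← mem_map_iff_mem St.subtype_injective, map_dser, map_subgroupOf_eq_of_le hj, dser_dser]
        exact dser_antitone S (show j + 1 ≤ n from hjlt) ha
      · rintro _ ⟨⟨t, htSt⟩, ht, rfl⟩
        refine le_normalizer_map f (mem_map_of_mem f (mem_normalizer_iff.2 fun u => ?_))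
        exact mem_normalizer_iff.1 (normalizer_le_dser S n (le_normalizer (dser_le S j ht))) (u : Γ)
      · rintro _ ⟨⟨a, haSt⟩, ha, rfl⟩
        refine LinearMap.ext fun v => Subtype.ext ?_
        rw [Module.End.mul_apply, LinearMap.sub_apply, LinearMap.sub_apply, Module.End.one_apply,
          Module.End.one_apply, LinearMap.zero_apply, Submodule.coe_sub, hρ', Submodule.coe_sub, hρ',
          ZeroMemClass.coe_zero]
        exact LinearMap.congr_fun (hch.quadratic ha ha) v
    -- back to the module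
    set c' : St := ⟨c, hcSt⟩ with hc'
    set y₁ : St := ⟨y', hCSt hy'⟩ with hy₁
    set x₁ : St := ⟨x, hCSt hx⟩ with hx₁
    let u : C' := ⟨f y₁, mem_map_of_mem f (show y₁ ∈ C.subgroupOf St from hy')⟩
    have h1 : cls C' (MulAut.conjNormal (f c') u * u⁻¹) = 1 := by
      rw [map_mul, map_inv, ← act_cls, show act C' (f c') = 1 from hφc, MulAut.one_apply,
        mul_inv_cancel]
    have hker : ∀ w : C', cls C' w = 1 → ∀ o ∈ C', (w : Γ') * o = o * w := by
      intro w hw o ho
      have hle : quoKer C' ≤ center C' := sup_le le_rfl (by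
        rw [commutator_def, commutator_le]
        intro r _ t _
        refine mem_center_iff.2 fun g => Subtype.ext ?_
        show (g : Γ') * C'.subtype ⁅r, t⁆ = C'.subtype ⁅r, t⁆ * g
        rw [map_commutatorElement]
        obtain ⟨ζ, hζ⟩ := hscal' r r.2 t t.2
        exact hinj' (by rw [map_mul, map_mul]; simp only [Subgroup.coe_subtype, hζ, smul_one_mul,
          mul_smul_comm, mul_one]))
      exact (congrArg Subtype.val
        (mem_center_iff.1 (hle ((QuotientGroup.eq_one_iff w).1 hw)) ⟨o, ho⟩)).symm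
    have h2 := hker _ h1 (f x₁) (mem_map_of_mem f (show x₁ ∈ C.subgroupOf St from hx))
    rw [Subgroup.coe_mul, MulAut.conjNormal_apply, InvMemClass.coe_inv] at h2
    have h3 : f (⁅c', y₁⁆ * x₁) = f (x₁ * ⁅c', y₁⁆) := by
      rw [map_mul, map_mul, map_commutatorElement, commutatorElement_def]
      exact h2
    refine LinearMap.ext fun v => ?_
    rw [Module.End.mul_apply, Module.End.mul_apply]
    have hv : e v ∈ V := ⟨v, rfl⟩
    have h4 := congrArg (fun g : Γ' => ((ρ' g ⟨e v, hv⟩ : V) : U)) h3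
    simp only [hρ'] at h4
    exact h4
  -- detection
  have hmain : ∀ o ∈ C, c * o = o * c := by
    intro o ho
    have hoC : ⁅c, o⁆ ∈ C := commutator_mem_of_normal hCn _ ho
    have hmem : ⁅c, o⁆ ∈ Z := by
      refine ⟨hoC, mem_centralizer_iff.2 fun x hx => hinj ?_⟩
      exact eq_of_forall_mul_weightIdem ρ hZcomm hZK fun l _ => (hblock l o ho x hx).symm
    rw [← commutatorElement_eq_one_iff_mul_comm]
    refine eq_one_of_commute_commutator (p := p ^ i) hck (hcenZ _ hmem) ?_
    obtain ⟨b, hb⟩ := hCp ⟨_, hoC⟩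
    exact (((Nat.coprime_primes hq hp).2 hqp).pow b i).coprime_dvd_left
      (orderOf_dvd_of_pow_eq_one (congrArg Subtype.val hb))
  have hcO : c ∈ normalizer (O : Set Γ) := by rw [normalizer_eq_top]; trivial
  set g := O.normalizerMonoidHom ⟨c, hcO⟩ with hg
  have hgord : (orderOf g).Coprime q :=
    (((Nat.coprime_primes hp hq).2 hqp.symm).pow_left i).coprime_dvd_left
      ((orderOf_map_dvd _ _).trans (orderOf_dvd_of_pow_eq_one (Subtype.ext hck)))
  have hg1 : g = 1 := hcrit g hgord fun x hx => Subtype.ext (by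
    show c * (x : Γ) * c⁻¹ = x
    rw [mul_inv_eq_iff_eq_mul]
    exact hmain _ (mem_map_of_mem O.subtype hx))
  intro w hw
  have h' : c * w * c⁻¹ = w := congrArg Subtype.val (DFunLike.congr_fun hg1 (⟨w, hw⟩ : O))
  exact mul_inv_eq_iff_eq_mul.1 h'

end CfsgLib.Solvable.PLengthDerived
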