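import Cfsg.Agent.Lib.Solvable.PLengthDerived.Block
import Cfsg.Agent.Lib.Solvable.TwoLengthDerived.Main

/-!
# The `p`-length is at most the derived length of a Sylow `p`-subgroup, `p` odd
-/

set_option autoImplicit false

namespace CfsgLib.Solvable.PLengthDerived

open Subgroup CfsgLib CfsgLib.Solvable.FPFOperators CfsgLib.Solvable.TwoLengthDerived
open scoped commutatorElement

universe u

variable {p : ℕ} [Fact p.Prime]

/-- The scalar extension keeps vanishing chains. -/
theorem exists_closure_rep_chain_gen {Γ : Type u} [Group Γ] {V : Type u} [AddCommGroup V] [Finite V]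
    [Module (ZMod p) V] (ρ₀ : Γ →* Module.End (ZMod p) V) (hinj : Function.Injective ρ₀) :
    ∃ (W : Type u) (_ : AddCommGroup W) (_ : Module (AlgebraicClosure (ZMod p)) W)
      (_ : FiniteDimensional (AlgebraicClosure (ZMod p)) W)
      (ρ : Γ →* Module.End (AlgebraicClosure (ZMod p)) W),
      Function.Injective ρ ∧ ∀ (T : Subgroup Γ) (n : ℕ), ChainZero ρ₀ T n → ChainZero ρ T n := by
  haveI : Module.Finite (ZMod p) V := Module.Finite.of_finite
  let bc := Module.End.baseChangeHom (ZMod p) (AlgebraicClosure (ZMod p)) V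
  have hbc : Function.Injective bc :=
    LinearMap.baseChangeHom_injective (ZMod p) V (AlgebraicClosure (ZMod p))
  refine ⟨_, inferInstance, inferInstance, inferInstance, bc.toMonoidHom.comp ρ₀,
    fun a b h => hinj (hbc h), fun T n h g' hg' => ?_⟩
  rw [← map_id T] at hg'
  obtain ⟨g, hg, hgg⟩ := IsChain.of_map (ρ := ρ₀) (ρ' := bc.toMonoidHom.comp ρ₀) (MonoidHom.id Γ)
    (fun g g' => g' = bc g) (map_one bc).symm (fun x g g' hgg => by
      rw [hgg]
      show (bc (ρ₀ x) - 1) * bc g = bc ((ρ₀ x - 1) * g)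
      exact ((map_mul bc _ g).trans (congrArg (· * bc g) ((map_sub bc (ρ₀ x) 1).trans
        (congrArg (bc (ρ₀ x) - ·) (map_one bc))))).symm) n g' hg'
  rw [hgg, h g hg]
  exact map_zero bc

/-- Vanishing chains pass to the source of a homomorphism. -/
theorem chainZero_comp {G X A : Type*} [Group G] [Group X] [Ring A] (ρ : G →* A) (f : X →* G)
    {T : Subgroup X} {n : ℕ} (h : ChainZero ρ (T.map f) n) : ChainZero (ρ.comp f) T n := by
  have key : ∀ (m : ℕ) (g : A), IsChain (ρ.comp f) T m g → IsChain ρ (T.map f) m g := by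
    intro m
    induction m with
    | zero => exact fun g hg => hg
    | succ m ih =>
      rintro _ ⟨x, hx, g, hg, rfl⟩
      exact ⟨f x, map_dser f T m ▸ mem_map_of_mem f hx, g, ih g hg, rfl⟩
  exact fun g hg => h g (key n g hg)

/-- Chains on the top layer are iterated commutators. -/
theorem exists_chain_translate_gen {G : Type u} [Group G] {U : Subgroup G} [U.Normal] {V : Type u}
    [AddCommGroup V] [Module (ZMod p) V] (ρ₀ : G ⧸ U →* Module.End (ZMod p) V) (π : U → V)
    (hadd : ∀ a b, π (a * b) = π a + π b)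
    (hconj : ∀ (g : G) (a b : U), (b : G) = g * a * g⁻¹ → π b = ρ₀ (g : G ⧸ U) (π a))
    {S : Subgroup G} :
    ∀ (n : ℕ) (g' : Module.End (ZMod p) V), IsChain ρ₀ (S.map (QuotientGroup.mk' U)) n g' →
      ∀ a : U, (a : G) ∈ S → ∃ b : U, (b : G) ∈ dser S n ∧ π b = g' (π a)
  | 0, g', h, a, haS => ⟨a, haS, by rw [show g' = 1 from h]; rfl⟩
  | n + 1, g', h, a, haS => by
    obtain ⟨x', hx', g₀, hg₀, rfl⟩ := h
    rw [← map_dser] at hx'
    obtain ⟨x, hx, rfl⟩ := hx'
    obtain ⟨b, hb, hπ⟩ := exists_chain_translate_gen ρ₀ π hadd hconj n g₀ hg₀ a haS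
    let c : U := ⟨x * b * x⁻¹, (inferInstance : U.Normal).conj_mem b b.2 x⟩
    have hπinv : π b⁻¹ = -π b := by
      refine eq_neg_of_add_eq_zero_left ?_
      have h1 := hadd 1 1
      rw [mul_one, left_eq_add] at h1
      rw [← hadd, inv_mul_cancel, h1]
    refine ⟨c * b⁻¹, ?_, ?_⟩
    · show x * (b : G) * x⁻¹ * (b : G)⁻¹ ∈ dser S (n + 1)
      rw [← commutatorElement_def]
      exact commutator_mem_commutator hx hb
    · rw [hadd, hπinv, hconj x b c rfl, hπ, ← sub_eq_add_neg, Module.End.mul_apply,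
        LinearMap.sub_apply, Module.End.one_apply]
      rfl

/-- Vanishing chains bound the derived length of the operators. -/
theorem dser_eq_bot_of_chain (hp2 : p ≠ 2) {H : Type u} [Group H] [Finite H]
    (hsol : Cfsg.IsPSolvable p H) (hcore : Cfsg.pCore p H = ⊥) {V : Type u} [AddCommGroup V] [Finite V]
    [Module (ZMod p) V] (ρ₀ : H →* Module.End (ZMod p) V) (hinj₀ : Function.Injective ρ₀)
    (S : Sylow p H) {n : ℕ} (hch₀ : ChainZero ρ₀ (S : Subgroup H) (n + 1)) :
    dser (S : Subgroup H) n = ⊥ := by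
  obtain ⟨W, _, _, _, ρ, hinj, hρch⟩ := exists_closure_rep_chain_gen ρ₀ hinj₀
  have hch := hρch _ _ hch₀
  refine eq_bot_iff.2 fun c hc => mem_bot.2 ?_
  refine eq_one_of_centralizes_invariant hsol hcore S.isPGroup' (dser_le _ _ hc)
    fun q hq hqp Q hQ hSQ y hy => ?_
  haveI := Fact.mk hq
  set N := normalizer (Q : Set H) with hN
  haveI : (Q.subgroupOf N).Normal :=
    (normal_subgroupOf_iff_le_normalizer le_normalizer).2 le_rfl
  have hmap : ((S : Subgroup H).subgroupOf N).map N.subtype = S := map_subgroupOf_eq_of_le hSQ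
  have hcN : c ∈ N := hSQ (dser_le _ _ hc)
  exact congrArg Subtype.val (commute_of_chain hp2 hqp (ρ.comp N.subtype)
    (fun a b h => Subtype.ext (hinj h)) (O := Q.subgroupOf N)
    (hQ.of_equiv (subgroupOfEquivOfLe le_normalizer).symm) (S := (S : Subgroup H).subgroupOf N)
    (S.isPGroup'.of_equiv (subgroupOfEquivOfLe hSQ).symm)
    (chainZero_comp ρ N.subtype (n := n + 1) (hmap.symm ▸ hch)) (c := (⟨c, hcN⟩ : N)) (by
      rw [← mem_map_iff_mem N.subtype_injective, map_dser, hmap]
      exact hc) ⟨y, le_normalizer hy⟩ hy)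

/-- The `p`-length is at most the derived length. -/
theorem pLengthLE_of_sylow_dser (hp2 : p ≠ 2) : ∀ (d : ℕ) {G : Type u} [Group G] [Finite G],
    Cfsg.IsPSolvable p G → (∀ P : Sylow p G, dser (P : Subgroup G) d = ⊥) →
    Cfsg.PLengthLE p d G := by
  intro d
  induction d with
  | zero =>
    intro G _ _ _ hd
    refine pLengthLE_zero fun P x hx => ?_
    rw [pow_zero, pow_one]
    exact mem_bot.1 ((hd P) ▸ (show x ∈ dser (P : Subgroup G) 0 from hx))
  | succ n ih =>
    intro G _ _ hG hd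
    haveI : ((Cfsg.upperPSeries p G 2).1).Normal := (Cfsg.upperPSeries p G 2).2
    refine pLengthLE_succ (ih (Fusion.PSolvable.psolvable_quotient hG _) fun P => ?_)
    obtain ⟨V, _, _, _, ρ₀, π, hinj, hsurj, hadd, hconj⟩ := exists_layer_rep (p := p) hG
    obtain ⟨S⟩ := (inferInstance : Nonempty (Sylow p G))
    refine dser_eq_bot_of_chain hp2 (Fusion.PSolvable.psolvable_quotient hG _) pCore_mod_upper_two
      ρ₀ hinj P ?_
    refine chainZero_of_map ρ₀ (QuotientGroup.mk'_surjective _) S (fun g hg => ?_) P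
    refine LinearMap.ext fun v => ?_
    obtain ⟨a, ha, rfl⟩ := hsurj S v
    obtain ⟨b, hb, hπ⟩ := exists_chain_translate_gen ρ₀ π hadd hconj (n + 1) g hg a ha
    rw [hd S, mem_bot] at hb
    have h1 := hadd 1 1
    rw [mul_one, left_eq_add] at h1
    rw [← hπ, show b = 1 from Subtype.ext hb, h1, LinearMap.zero_apply]

/-- The `p`-length is at most the derived length of a Sylow `p`-subgroup. -/
theorem pLengthLE_of_sylow_derived (hp2 : p ≠ 2) {G : Type u} [Group G] [Finite G]
    (hG : Cfsg.IsPSolvable p G) (d : ℕ)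
    (hd : ∀ P : Sylow p G, derivedSeries (P : Subgroup G) d = ⊥) : Cfsg.PLengthLE p d G :=
  pLengthLE_of_sylow_dser hp2 d hG fun P => by
    rw [dser_eq_map_derivedSeries, hd P, Subgroup.map_bot]

end CfsgLib.Solvable.PLengthDerived
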