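import Cfsg.Agent.Lib.Solvable.TwoLengthDerived.Chain

/-!
# The orbit lemma for chains at an arbitrary prime
-/

set_option autoImplicit false

namespace CfsgLib.Solvable.PLengthDerived

open Subgroup CfsgLib CfsgLib.Solvable.FPFOperators CfsgLib.Solvable.TwoLengthDerived
open scoped commutatorElement

variable {Γ : Type*} [Group Γ] [Finite Γ] {p : ℕ} [Fact p.Prime] {K : Type*} [Field K] {A : Type*}
  [Ring A] [Algebra K A] (ρ : Γ →* A) {Z : Subgroup Γ} [Z.Normal] [Fintype Z]

/-- A `p`-group that moves a point moves it outside the orbit of its derived group. -/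
theorem exists_smul_not_mem {Ω : Type*} [MulAction Γ Ω] {T : Subgroup Γ} (hT : IsPGroup p T) (l : Ω)
    (hmove : ¬ T ≤ MulAction.stabilizer Γ l) :
    ∃ x ∈ T, ∀ y ∈ ⁅T, T⁆, x • l ≠ y • l := by
  by_contra hcon
  push Not at hcon
  refine hmove ?_
  set St := (MulAction.stabilizer Γ l).subgroupOf T with hSt
  have hsup : St ⊔ commutator T = ⊤ := by
    rw [eq_top_iff]
    intro x _
    obtain ⟨y, hy, hxy⟩ := hcon x x.2
    have hyT : y ∈ T := dser_succ_le T 0 hy
    have hyc : (⟨y, hyT⟩ : T) ∈ commutator T := by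
      rw [← mem_map_iff_mem T.subtype_injective, map_subtype_commutator]
      exact hy
    have e : x = ⟨y, hyT⟩ * ((⟨y, hyT⟩ : T)⁻¹ * x) := by group
    rw [e]
    refine mul_mem (mem_sup_right hyc) (mem_sup_left ?_)
    show y⁻¹ * (x : Γ) ∈ MulAction.stabilizer Γ l
    rw [MulAction.mem_stabilizer_iff, mul_smul, hxy, inv_smul_smul]
  have htop : St = ⊤ := frattini_nongenerating
    (eq_top_iff.2 (hsup ▸ sup_le_sup le_rfl (PGroup.Kulakoff.commutator_le_frattini hT)))
  exact subgroupOf_eq_top.1 htop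

/-- As long as the derived subgroups move a weight, some chain survives on it. -/
theorem exists_isChain_proj {S : Subgroup Γ} (hS : IsPGroup p S) (hZ : (Fintype.card Z : K) ≠ 0)
    (l : Z →* Kˣ) : ∀ j : ℕ, (∀ i < j, ¬ dser S i ≤ MulAction.stabilizer Γ l) →
    ∃ f, IsChain ρ S j f ∧ (weightIdem Z ρ l * f * weightIdem Z ρ l = weightIdem Z ρ l ∨
      weightIdem Z ρ l * f * weightIdem Z ρ l = -weightIdem Z ρ l) ∧
      ∀ y ∈ dser S j, y • l ≠ l →
        weightIdem Z ρ (y • l) * f * weightIdem Z ρ l = 0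
  | 0, _ => ⟨1, rfl, .inl (by rw [mul_one, weightIdem_mul_self ρ hZ]), fun y _ hy => by
      rw [mul_one, weightIdem_orth ρ hy]⟩
  | j + 1, hmove => by
    classical
    obtain ⟨f, hf, hfl, hfo⟩ := exists_isChain_proj hS hZ l j fun i hi => hmove i (by omega)
    obtain ⟨x, hx, hxo⟩ :=
      exists_smul_not_mem (hS.to_le (dser_le S j)) l (hmove j (by omega))
    set e := weightIdem Z ρ l with he
    have key : ∀ y ∈ dser S (j + 1), weightIdem Z ρ (y • l) * ((ρ x - 1) * f) * e =
        -(weightIdem Z ρ (y • l) * f * e) := by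
      intro y hy
      have h1 : weightIdem Z ρ (y • l) * ρ x = ρ x * weightIdem Z ρ ((x⁻¹ * y) • l) := by
        rw [map_mul_weightIdem_smul ρ x, ← mul_smul, mul_inv_cancel_left]
      have h2 : weightIdem Z ρ ((x⁻¹ * y) • l) * f * e = 0 := by
        refine hfo _ (mul_mem (inv_mem hx) (dser_succ_le S j hy)) fun h => hxo y hy ?_
        rw [mul_smul, inv_smul_eq_iff] at h
        exact h.symm
      calc weightIdem Z ρ (y • l) * ((ρ x - 1) * f) * e
          = weightIdem Z ρ (y • l) * ρ x * f * e - weightIdem Z ρ (y • l) * f * e := by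
            rw [sub_mul, one_mul, mul_sub, sub_mul, ← mul_assoc]
        _ = -(weightIdem Z ρ (y • l) * f * e) := by
            rw [h1, mul_assoc (ρ x), mul_assoc (ρ x), h2, mul_zero, zero_sub]
    refine ⟨_, isChain_succ ρ hx hf, ?_, fun y hy hyl => ?_⟩
    · have h := key 1 (one_mem _)
      rw [one_smul] at h
      rw [h]
      rcases hfl with h' | h' <;> rw [h']
      · exact .inr rfl
      · exact .inl (neg_neg e)
    · rw [key y hy, hfo y (dser_succ_le S j hy) hyl, neg_zero]

variable {ρ}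

/-- The last derived subgroup fixes every weight. -/
theorem dser_le_stabilizer {S : Subgroup Γ} (hS : IsPGroup p S) (hZ : (Fintype.card Z : K) ≠ 0)
    {n : ℕ} (h : ChainZero ρ S (n + 1)) (l : Z →* Kˣ) (hl : weightIdem Z ρ l ≠ 0) :
    dser S n ≤ MulAction.stabilizer Γ l := by
  by_contra hmove
  obtain ⟨f, hf, hfl, -⟩ := exists_isChain_proj ρ hS hZ l (n + 1) fun i hi hle =>
    hmove ((dser_antitone S (show i ≤ n by omega)).trans hle)
  rw [h f hf, mul_zero, zero_mul] at hfl
  rcases hfl with h' | h'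
  · exact hl h'.symm
  · exact hl (neg_eq_zero.1 h'.symm)

/-- If only the last derived subgroup fixes the weight, it acts trivially there. -/
theorem sub_one_mul_weightIdem {S : Subgroup Γ} (hS : IsPGroup p S) (hZ : (Fintype.card Z : K) ≠ 0)
    (l : Z →* Kˣ) {i : ℕ} (h : ChainZero ρ S (i + 1))
    (hmove : ∀ t < i, ¬ dser S t ≤ MulAction.stabilizer Γ l)
    (hfix : dser S i ≤ MulAction.stabilizer Γ l) {x : Γ} (hx : x ∈ dser S i) :
    (ρ x - 1) * weightIdem Z ρ l = 0 := by
  set e := weightIdem Z ρ l with he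
  obtain ⟨g, hg, hgl, -⟩ := exists_isChain_proj ρ hS hZ l i hmove
  have hxe : ρ x * e = e * ρ x := by
    rw [he, map_mul_weightIdem_smul, MulAction.mem_stabilizer_iff.1 (hfix hx)]
  have h0 : (ρ x - 1) * (e * g * e) = 0 := by
    rw [← mul_assoc, ← mul_assoc, sub_mul, one_mul, hxe]
    conv_lhs => arg 1; arg 1; arg 2; rw [← mul_one e]
    rw [← mul_sub, mul_assoc e, h _ (isChain_succ ρ hx hg), mul_zero, zero_mul]
  rcases hgl with h' | h' <;> rw [h'] at h0
  · exact h0
  · rwa [mul_neg, neg_eq_zero] at h0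

end CfsgLib.Solvable.PLengthDerived
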